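import Groth.Agent.FlatMor68.PerfKoszul
import Groth.Agent.DR39.Thick
import Groth.Prelude.Def_KZero
import Mathlib.RingTheory.Ideal.AssociatedPrime.Finiteness
import Mathlib.RingTheory.LocalRing.MaximalIdeal.Basic

/-!
`K₀` of perfect complexes supported at the closed point of a regular local ring.
-/

set_option autoImplicit false
set_option backward.isDefEq.respectTransparency.types false
set_option linter.style.haveILetI false
set_option linter.unusedSectionVars false

universe u

open CategoryTheory CategoryTheory.Limits CategoryTheory.Pretriangulated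
open scoped ZeroObject

attribute [local instance] HasDerivedCategory.standard

namespace Groth.Agent.K0Perf46

open DR39 Koszul19

section General

universe v w

variable {D : Type w} [Category.{v} D] [Preadditive D] [HasZeroObject D] [HasShift D ℤ]
  [∀ n : ℤ, (shiftFunctor D n).Additive] [Pretriangulated D] {P : ObjectProperty D}

theorem clTr_eq {X : D} (h : P X) :
    KZero.clTr P X = QuotientAddGroup.mk (FreeAbelianGroup.of ⟨X, h⟩) := dif_pos h

theorem clTr_triangle (T : Triangle D) (hT : T ∈ distinguishedTriangles) (h₁ : P T.obj₁)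
    (h₂ : P T.obj₂) (h₃ : P T.obj₃) :
    KZero.clTr P T.obj₂ = KZero.clTr P T.obj₁ + KZero.clTr P T.obj₃ := by
  rw [clTr_eq h₁, clTr_eq h₂, clTr_eq h₃, ← sub_eq_zero, ← sub_sub, ← QuotientAddGroup.mk_sub,
    ← QuotientAddGroup.mk_sub, QuotientAddGroup.eq_zero_iff]
  exact AddSubgroup.subset_closure ⟨T, h₁, h₂, h₃, hT, rfl⟩

theorem clTr_isZero (hP : ∀ {X : D}, IsZero X → P X) {X : D} (h : IsZero X) :
    KZero.clTr P X = 0 := by
  have e := clTr_triangle (P := P) (contractibleTriangle X) (contractible_distinguished X) (hP h) (hP h)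
    (hP (isZero_zero D))
  change KZero.clTr P X = KZero.clTr P X + KZero.clTr P (0 : D) at e
  have e' := left_eq_add.1 e
  have e₂ := clTr_triangle (P := P) _ (isomorphic_distinguished _ (contractible_distinguished X)
    (Triangle.mk (0 : X ⟶ (0 : D)) (0 : (0 : D) ⟶ (0 : D)) 0)
    (Triangle.isoMk _ _ (Iso.refl X) (h.iso (isZero_zero D)).symm (Iso.refl _)
      (h.eq_of_src _ _) ((isZero_zero D).eq_of_src _ _) ((isZero_zero D).eq_of_src _ _)))
    (hP h) (hP (isZero_zero D)) (hP (isZero_zero D))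
  change KZero.clTr P (0 : D) = KZero.clTr P X + KZero.clTr P (0 : D) at e₂
  rw [e', add_zero] at e₂
  exact e₂.symm

theorem clTr_iso (hP : ∀ {X : D}, IsZero X → P X) {X Y : D} (e : X ≅ Y) (hX : P X) (hY : P Y) :
    KZero.clTr P Y = KZero.clTr P X := by
  have hT : Triangle.mk e.hom (0 : Y ⟶ 0) 0 ∈ distTriang D :=
    isomorphic_distinguished _ (contractible_distinguished X) _
      (Triangle.isoMk (Triangle.mk e.hom (0 : Y ⟶ 0) 0) (contractibleTriangle X) (Iso.refl X) e.symm
        (Iso.refl (0 : D))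
        (by exact (e.hom_inv_id).trans (Category.comp_id _).symm)
        (by exact zero_comp.trans comp_zero.symm) (by exact zero_comp.trans comp_zero.symm))
  have h := clTr_triangle (P := P) _ hT hX hY (hP (isZero_zero D))
  change KZero.clTr P Y = KZero.clTr P X + KZero.clTr P (0 : D) at h
  rw [clTr_isZero hP (isZero_zero D), add_zero] at h
  exact h

theorem clTr_shift_one (hP : ∀ {X : D}, IsZero X → P X) {X : D} (hX : P X) (hX' : P (X⟦(1 : ℤ)⟧)) :
    KZero.clTr P (X⟦(1 : ℤ)⟧) = -KZero.clTr P X := by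
  have h := clTr_triangle (P := P) _ (rot_of_distTriang _ (contractible_distinguished X))
    hX (hP (isZero_zero D)) hX'
  change KZero.clTr P (0 : D) = KZero.clTr P X + KZero.clTr P (X⟦(1 : ℤ)⟧) at h
  rw [clTr_isZero hP (isZero_zero D)] at h
  exact eq_neg_of_add_eq_zero_right h.symm

variable (P) in
/-- Objects of `P` with class in a subgroup. -/
def InSubgroup (H : AddSubgroup (KZero.K0tr P)) (X : D) : Prop := P X ∧ KZero.clTr P X ∈ H

theorem inSubgroup_shift (hP : ∀ {X : D}, IsZero X → P X)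
    (hsh : ∀ (X : D) (n : ℤ), P X → P (X⟦n⟧)) (H : AddSubgroup (KZero.K0tr P)) {X : D}
    (h : InSubgroup P H X) (n : ℤ) : InSubgroup P H (X⟦n⟧) := by
  refine ⟨hsh X n h.1, ?_⟩
  induction n with
  | zero =>
    rw [clTr_iso hP ((shiftFunctorZero D ℤ).app X).symm h.1 (hsh X _ h.1)]
    exact h.2
  | succ k ih =>
    have e : (X⟦(k : ℤ)⟧)⟦(1 : ℤ)⟧ ≅ X⟦(k : ℤ) + 1⟧ := ((shiftFunctorAdd D (k : ℤ) 1).app X).symm
    rw [clTr_iso hP e (hsh _ 1 (hsh X _ h.1)) (hsh X _ h.1),
      clTr_shift_one hP (hsh X _ h.1) (hsh _ 1 (hsh X _ h.1))]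
    exact H.neg_mem ih
  | pred k ih =>
    have e : (X⟦-(k : ℤ) - 1⟧)⟦(1 : ℤ)⟧ ≅ X⟦-(k : ℤ)⟧ :=
      ((shiftFunctorAdd' D (-(k : ℤ) - 1) 1 (-(k : ℤ)) (by omega)).app X).symm
    rw [clTr_iso hP e (hsh _ 1 (hsh X _ h.1)) (hsh X _ h.1),
      clTr_shift_one hP (hsh X _ h.1) (hsh _ 1 (hsh X _ h.1))] at ih
    exact H.neg_mem_iff.1 ih

theorem eq_top_of_forall_mem (H : AddSubgroup (KZero.K0tr P))
    (h : ∀ X, P X → KZero.clTr P X ∈ H) : H = ⊤ := by
  refine eq_top_iff.2 fun x hx => ?_
  clear hx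
  obtain ⟨z, rfl⟩ := QuotientAddGroup.mk_surjective x
  induction z using FreeAbelianGroup.induction_on with
  | zero => exact H.zero_mem
  | of X => exact clTr_eq X.2 ▸ h X.1 X.2
  | neg X hX => exact H.neg_mem hX
  | add x y hx hy => exact H.add_mem hx hy

end General

variable {R : Type u} [CommRing R]

/-- The Koszul complex of a Koszul-regular sequence is the quotient. -/
theorem nonempty_koszul_iso (l : List R) (hl : KR l) :
    Nonempty (Dual.inD R (R ⧸ Ideal.ofList l) ≅ (QA R).obj (Koszul.koszul R l)) := by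
  let X := (QA R).obj (Koszul.koszul R l)
  obtain ⟨e⟩ := exists_iso_single_homology X 0 fun i hi =>
    ((isZero_homology_iff_ex _ i).2 (hl i hi)).of_iso (HQIso _ i)
  exact ⟨(DerivedCategory.singleFunctor (ModuleCat.{u} R) 0).mapIso
    (HQIso _ 0 ≪≫ homologyIsoHc _ (-1) 0 1 (by omega) (by omega) ≪≫ (hcZero l).toModuleIso).symm ≪≫ e.symm⟩

/-- Homology of a perfect object is finite. -/
theorem finite_HF_of_perfect [IsNoetherianRing R] {X : Dual.D R} (h : DRing.IsPerfect R X) (i : ℤ) :
    Module.Finite R ((HF R i).obj X) := by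
  obtain ⟨E, a, b, -, hE, ⟨e⟩⟩ := h
  haveI := (hE i).1
  haveI : IsNoetherian R (E.X i) := isNoetherian_of_isNoetherianRing_of_finite R _
  exact Module.Finite.equiv (((HF R i).mapIso e).symm ≪≫ HQIso E i ≪≫
    homologyIsoHc E (i - 1) i (i + 1) (by omega) rfl).symm.toLinearEquiv

variable [IsLocalRing R]

/-- Perfect and supported at the closed point. -/
abbrev PK (R : Type u) [CommRing R] [IsLocalRing R] : Dual.D R → Prop := fun K =>
  DRing.IsPerfect R K ∧ ∀ i : ℤ, Module.support R (Dual.HD R K i) ⊆ {IsLocalRing.closedPoint R}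

theorem support_HF_of_iso {X Y : Dual.D R} (e : X ≅ Y) (i : ℤ) :
    Module.support R (Dual.HD R X i) = Module.support R (Dual.HD R Y i) :=
  ((HF R i).mapIso e).toLinearEquiv.support_eq

theorem pk_iso {X Y : Dual.D R} (e : X ≅ Y) (h : PK R X) : PK R Y :=
  ⟨perfect_of_iso h.1 e, fun i => (support_HF_of_iso e i).symm.trans_subset (h.2 i)⟩

theorem pk_zero {X : Dual.D R} (h : IsZero X) : PK R X := by
  refine ⟨perfect_of_isZero h, fun i => ?_⟩
  haveI : Subsingleton (Dual.HD R X i) := (isZero_HF_iff X i).1 ((HF R i).map_isZero h)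
  exact (Module.support_eq_empty_iff.2 inferInstance).trans_subset (Set.empty_subset _)

theorem pk_shift (X : Dual.D R) (n : ℤ) (h : PK R X) : PK R (X⟦n⟧) := by
  refine ⟨perfect_shift h.1 n, fun i => ?_⟩
  exact (((HF R 0).shiftIso n i (n + i) rfl).app X).toLinearEquiv.support_eq.trans_subset (h.2 (n + i))

theorem pk_ext (T : Triangle (Dual.D R)) (hT : T ∈ distinguishedTriangles) (h₁ : PK R T.obj₁)
    (h₃ : PK R T.obj₃) : PK R T.obj₂ := by
  refine ⟨perfect_obj₂ hT h₁.1 h₃.1, fun i p hp => by_contra fun hne => ?_⟩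
  have n₁ : p ∉ Module.support R (Dual.HD R T.obj₁ i) := fun h => hne (h₁.2 i h)
  have n₃ : p ∉ Module.support R (Dual.HD R T.obj₃ i) := fun h => hne (h₃.2 i h)
  refine Module.notMem_support_iff'.2 (fun m => ?_) hp
  have hex := (ShortComplex.moduleCat_exact_iff _).1
    (DerivedCategory.HomologySequence.exact₂ T hT i)
  obtain ⟨r, hr, e₃⟩ := Module.notMem_support_iff'.1 n₃ (((HF R i).map T.mor₂).hom m)
  obtain ⟨y, hy⟩ := hex (r • m) ((map_smul _ r m).trans e₃)
  obtain ⟨s, hs, e₁⟩ := Module.notMem_support_iff'.1 n₁ y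
  refine ⟨s * r, p.asIdeal.primeCompl.mul_mem hs hr, ?_⟩
  rw [mul_smul, ← hy]
  exact (map_smul _ s y).symm.trans ((congrArg _ e₁).trans (map_zero _))

theorem pk_inD (M : Type u) [AddCommGroup M] [Module R M] (hM : DRing.IsPerfect R (Dual.inD R M))
    (hs : Module.support R M ⊆ {IsLocalRing.closedPoint R}) : PK R (Dual.inD R M) := by
  refine ⟨hM, fun i => ?_⟩
  by_cases hi : i = 0
  · subst hi
    exact (inDH0 (A := R) M).toLinearEquiv.support_eq.trans_subset hs
  · haveI : Subsingleton (Dual.HD R (Dual.inD R M) i) := by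
      refine (isZero_HF_iff _ i).1 ?_
      rcases lt_or_gt_of_ne hi with h | h
      · exact DerivedCategory.isZero_of_isGE _ 0 i h
      · exact DerivedCategory.isZero_of_isLE _ 0 i h
    exact (Module.support_eq_empty_iff.2 inferInstance).trans_subset (Set.empty_subset _)

theorem closure_koszul_eq_top [IsNoetherianRing R] (fs : List R) (hl : KR fs)
    (hgen : Ideal.ofList fs = IsLocalRing.maximalIdeal R) :
    AddSubgroup.closure {KZero.clTr (PK R) ((QA R).obj (Koszul.koszul R fs))} = ⊤ := by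
  set H := AddSubgroup.closure {KZero.clTr (PK R) ((QA R).obj (Koszul.koszul R fs))} with hH
  let Q := InSubgroup (PK R) H
  have hz : ∀ X, IsZero X → Q X := fun X hX =>
    ⟨pk_zero hX, (clTr_isZero (P := PK R) pk_zero hX).symm ▸ H.zero_mem⟩
  have hiso : ∀ {X Y : Dual.D R}, (X ≅ Y) → Q X → Q Y := fun e h =>
    ⟨pk_iso e h.1, (clTr_iso (P := PK R) pk_zero e h.1 (pk_iso e h.1)).symm ▸ h.2⟩
  have hext : ∀ T : Triangle (Dual.D R), T ∈ distinguishedTriangles → Q T.obj₁ → Q T.obj₃ → Q T.obj₂ :=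
    fun T hT h₁ h₃ => ⟨pk_ext T hT h₁.1 h₃.1,
      (clTr_triangle (P := PK R) T hT h₁.1 (pk_ext T hT h₁.1 h₃.1) h₃.1).symm ▸ H.add_mem h₁.2 h₃.2⟩
  have hsupp : Module.support R (R ⧸ Ideal.ofList fs) ⊆ {IsLocalRing.closedPoint R} := by
    intro p hp
    rw [Module.mem_support_iff_of_finite, Ideal.annihilator_quotient, hgen] at hp
    exact PrimeSpectrum.ext ((IsLocalRing.maximalIdeal.isMaximal R).eq_of_le p.2.ne_top hp).symm
  obtain ⟨ek⟩ := nonempty_koszul_iso fs hl
  have hk : Q (Dual.inD R (R ⧸ Ideal.ofList fs)) := by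
    have hp := pk_inD _ (FlatMor68.PerfKoszul.perfect_quotient_of_kR fs hl) hsupp
    refine hiso ek.symm ⟨pk_iso ek hp, AddSubgroup.subset_closure rfl⟩
  have hmod : ∀ (M : Type u) [AddCommGroup M] [Module R M] [Module.Finite R M],
      Module.support R M ⊆ {IsLocalRing.closedPoint R} → Q (Dual.inD R M) := by
    intro M _ _ hfin
    induction hfin using IsNoetherianRing.induction_on_isQuotientEquivQuotientPrime R with
    | subsingleton N => exact fun _ => hz _ (Functor.map_isZero _ (ModuleCat.isZero_of_subsingleton _))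
    | quotient N p f =>
      intro hs
      have hp : p ∈ Module.support R N := by
        rw [f.support_eq, Module.mem_support_iff_of_finite, Ideal.annihilator_quotient]
      have e : Ideal.ofList fs = p.1 := hgen.trans (congrArg PrimeSpectrum.asIdeal (hs hp)).symm
      exact hiso (inDLinIso ((Submodule.quotEquivOfEq _ _ e).trans f.symm)) hk
    | exact N₁ N₂ N₃ f g hf hg hfg h₁ h₃ =>
      intro hs
      have s₁ := (Module.support_subset_of_injective f hf).trans hs
      have s₃ := (Module.support_subset_of_surjective g hg).trans hs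
      obtain ⟨T, hT, e₁, e₂, e₃⟩ := exists_triangle_of_surjective (A := R) g hg
      rw [← e₂]
      refine hext T hT ?_ (e₃ ▸ h₃ s₃)
      rw [e₁]
      exact hiso (inDLinIso ((LinearEquiv.ofInjective f hf).trans
        (LinearEquiv.ofEq _ _ (LinearMap.exact_iff.1 hfg).symm))) (h₁ s₁)
  refine eq_top_of_forall_mem _ fun X hX => ?_
  obtain ⟨E, a, b, hv, hE, ⟨e⟩⟩ := id hX.1
  have hvan : ∀ i, i < a ∨ b < i → IsZero ((HF R i).obj X) := fun i hi => by
    refine IsZero.of_iso ?_ ((HF R i).mapIso e.symm ≪≫ HQIso E i)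
    exact ShortComplex.isZero_homology_of_isZero_X₂ _ (hv i hi)
  refine (induction_homology (P := Q) hiso hext a X (fun Y hY hlow => hz Y (isZero_of_forall fun i => ?_))
    (fun i _ => ?_) (b + 1) (fun i hi => hvan i (Or.inr (by omega)))).2
  · by_cases hi : a ≤ i
    · exact hY i hi
    · obtain ⟨e'⟩ := hlow i (by omega)
      exact (hvan i (Or.inl (by omega))).of_iso e'
  · haveI := finite_HF_of_perfect hX.1 i
    exact hiso (singleShiftIso _ i (-i) (by omega))
      (inSubgroup_shift (P := PK R) pk_zero pk_shift H (hmod _ (hX.2 i)) (-i))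

end Groth.Agent.K0Perf46
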