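import Groth.Agent.KDer46.Main
import Groth.Agent.DR39.Perf
import Groth.Agent.DR39.Hom
import Mathlib.Algebra.BigOperators.Finprod

/-!
`K₀` of finite projective modules and of perfect objects of the derived category.
-/

set_option autoImplicit false
set_option linter.unusedSectionVars false
set_option linter.style.haveILetI false

universe u

open CategoryTheory CategoryTheory.Limits CategoryTheory.Pretriangulated
attribute [local instance] HasDerivedCategory.standard

namespace Groth.Agent.K0Perf46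

open DR39

variable {R : Type u} [CommRing R]

variable (R) in
/-- The finite projective modules. -/
abbrev FPo : ObjectProperty (ModuleCat.{u} R) := fun M => Module.Finite R M ∧ Module.Projective R M

variable (R) in
/-- The perfect objects. -/
abbrev PKo : ObjectProperty (Dual.D R) := fun K => DRing.IsPerfect R K

/-- The class of a module. -/
noncomputable abbrev cl (M : ModuleCat.{u} R) : KZero.K0sub (FPo R) := KZero.clSub (FPo R) M

theorem fp_isZero {M : ModuleCat.{u} R} (h : IsZero M) : FPo R M := isModClass_FP.of_isZero h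

theorem cl_isZero {M : ModuleCat.{u} R} (h : IsZero M) : cl M = 0 := by
  let S : ShortComplex (ModuleCat.{u} R) := ShortComplex.mk (𝟙 M) (0 : M ⟶ M) comp_zero
  have hS : S.ShortExact :=
    { exact := ShortComplex.exact_of_isZero_X₂ _ h
      epi_g := ⟨fun g h' _ => h.eq_of_src g h'⟩ }
  have e := KDer46.clSub_add (P := FPo R) S hS (fp_isZero h) (fp_isZero h) (fp_isZero h)
  change cl M = cl M + cl M at e
  exact left_eq_add.1 e

theorem cl_iso {M N : ModuleCat.{u} R} (e : M ≅ N) (hM : FPo R M) : cl M = cl N := by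
  obtain ⟨Z, hZ⟩ := HasZeroObject.zero (C := ModuleCat.{u} R)
  let S : ShortComplex (ModuleCat.{u} R) :=
    ShortComplex.mk (0 : Z ⟶ M) e.hom zero_comp
  have hS : S.ShortExact :=
    { exact := (ShortComplex.exact_iff_mono _ rfl).2 inferInstance
      mono_f := ⟨fun g h _ => hZ.eq_of_tgt g h⟩ }
  have he := KDer46.clSub_add (P := FPo R) S hS (fp_isZero hZ) hM (isModClass_FP.of_iso e hM)
  change cl M = cl Z + cl N at he
  rw [he, cl_isZero hZ, zero_add]

theorem cl_biprod {M N : ModuleCat.{u} R} (hM : FPo R M) (hN : FPo R N) :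
    cl (M ⊞ N) = cl M + cl N :=
  KDer46.clSub_add (P := FPo R) (ShortComplex.mk biprod.inl biprod.snd biprod.inl_snd)
    (ShortComplex.Splitting.ofHasBinaryBiproduct M N).shortExact hM
    (isModClass_FP.of_iso (ModuleCat.biprodIsoProd M N).symm (isModClass_FP.prod M N hM hN)) hN

/-- The Euler characteristic of a complex. -/
noncomputable def chiE (E : DRing.Cx R) : KZero.K0sub (FPo R) :=
  ∑ᶠ i : ℤ, (i.negOnePow : ℤ) • cl (E.X i)

theorem finite_support {E : DRing.Cx R} {a b : ℤ} (h : DRing.VanishesOutside E a b) :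
    (Function.support fun i : ℤ => (i.negOnePow : ℤ) • cl (E.X i)).Finite := by
  refine (Set.finite_Icc a b).subset fun i hi => ?_
  by_contra h'
  refine hi ?_
  simp only [cl_isZero (h i (by rw [Set.mem_Icc] at h'; omega)), smul_zero]

theorem chiE_eq_sum {E : DRing.Cx R} {a b : ℤ} (h : DRing.VanishesOutside E a b) :
    chiE E = (Finset.Icc a b).sum fun i => (i.negOnePow : ℤ) • cl (E.X i) := by
  refine finsum_eq_sum_of_support_subset _ fun i hi => ?_
  by_contra h'
  refine hi ?_
  simp only [cl_isZero (h i (by simp at h'; omega)), smul_zero]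

theorem chiE_of_acyclic {E : DRing.Cx R} {a b : ℤ} (h : DRing.VanishesOutside E a b)
    (hE : DRing.TermwiseFiniteProjective E) (hex : ∀ i, E.ExactAt i) : chiE E = 0 := by
  let S : ℤ → ShortComplex (ModuleCat.{u} R) := fun i =>
    ShortComplex.mk (E.iCycles i) (E.toCycles i (i + 1)) (by
      rw [← cancel_mono (E.iCycles (i + 1))]
      simp)
  have hS : ∀ i, (S i).ShortExact := fun i => by
    have hlim : IsLimit (KernelFork.ofι (E.iCycles i) (S i).zero) :=
      KernelFork.IsLimit.ofι' _ _ fun {A} g hg => ⟨E.liftCycles g (i + 1) (by simp) (by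
        rw [← E.toCycles_i i (i + 1), ← Category.assoc]
        exact (congrArg (· ≫ E.iCycles (i + 1)) hg).trans zero_comp), E.liftCycles_i _ _ _ _⟩
    exact { exact := ShortComplex.exact_of_f_is_kernel _ hlim
            mono_f := inferInstanceAs (Mono (E.iCycles i))
            epi_g := Preadditive.epi_of_isZero_cokernel' _
              (E.homologyIsCokernel i (i + 1) (by simp)) ((hex (i + 1)).isZero_homology) }
  have hdesc : ∀ (j : ℕ) (i : ℤ), b + 1 ≤ i + j → FPo R (E.cycles i) := by
    intro j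
    induction j with
    | zero => exact fun i hi => fp_isZero (IsZero.of_mono (E.iCycles i) (h i (by omega)))
    | succ j ih =>
      intro i hi
      have hnext : Module.Projective R (E.cycles (i + 1)) := (ih (i + 1) (by omega)).2
      haveI := (hE i).1
      haveI := (hE i).2
      haveI : Epi (S i).g := (hS i).epi_g
      haveI : Projective (S i).X₃ := (IsProjective.iff_projective (R := R) (E.cycles (i + 1))).1 hnext
      let s := ShortComplex.ShortExact.splittingOfProjective (hS i)
      have hr : ∀ x, s.r.hom ((S i).f.hom x) = x := fun x => congr($(s.f_r) x)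
      exact ⟨Module.Finite.of_surjective s.r.hom fun x => ⟨(S i).f.hom x, hr x⟩,
        Module.Projective.of_split (S i).f.hom s.r.hom (LinearMap.ext hr)⟩
  have hZ : ∀ i, FPo R (E.cycles i) := fun i => hdesc (b + 1 - i).toNat i (by omega)
  let c : ℤ → KZero.K0sub (FPo R) := fun i => (i.negOnePow : ℤ) • cl (E.cycles i)
  have key : ∀ i : ℤ, (i.negOnePow : ℤ) • cl (E.X i) = c i - c (i + 1) := fun i => by
    have he := KDer46.clSub_add (P := FPo R) (S i) (hS i) (hZ i) (hE i) (hZ (i + 1))
    change cl (E.X i) = cl (E.cycles i) + cl (E.cycles (i + 1)) at he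
    simp only [c, Int.negOnePow_succ, Units.val_neg, neg_smul, sub_neg_eq_add, he, smul_add]
  have fc : (Function.support c).Finite := by
    refine (Set.finite_Icc a b).subset fun i hi => ?_
    by_contra h'
    refine hi ?_
    simp only [c, cl_isZero (IsZero.of_mono (E.iCycles i) (h i (by rw [Set.mem_Icc] at h'; omega))),
      smul_zero]
  have fc' : (Function.support fun i => c (i + 1)).Finite :=
    (fc.image fun i => i - 1).subset fun i hi => ⟨i + 1, hi, by simp⟩
  have hc : (∑ᶠ i, c (i + 1)) = ∑ᶠ i, c i := finsum_comp_equiv (Equiv.addRight (1 : ℤ))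
  rw [chiE, finsum_congr key, finsum_sub_distrib fc fc', hc, sub_self]

theorem cone_vanishes {E F : DRing.Cx R} (f : E ⟶ F) {a b c d : ℤ}
    (hE : DRing.VanishesOutside E a b) (hF : DRing.VanishesOutside F c d) :
    DRing.VanishesOutside (CochainComplex.mappingCone f) (min (a - 1) c) (max (b - 1) d) := fun i hi => by
  refine IsZero.of_iso ?_ (HomologicalComplex.homotopyCofiber.XIsoBiprod f i (i + 1) rfl)
  exact (biprod_isZero_iff _ _).2 ⟨hE _ (by omega), hF _ (by omega)⟩

theorem cone_fp {E F : DRing.Cx R} (f : E ⟶ F) (hE : DRing.TermwiseFiniteProjective E)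
    (hF : DRing.TermwiseFiniteProjective F) :
    DRing.TermwiseFiniteProjective (CochainComplex.mappingCone f) := fun i =>
  isModClass_FP.of_iso ((ModuleCat.biprodIsoProd _ _).symm ≪≫
    (HomologicalComplex.homotopyCofiber.XIsoBiprod f i (i + 1) rfl).symm)
    (isModClass_FP.prod _ _ (hE (i + 1)) (hF i))

theorem chiE_cone {E F : DRing.Cx R} (f : E ⟶ F) {a b c d : ℤ}
    (hE : DRing.VanishesOutside E a b) (hF : DRing.VanishesOutside F c d)
    (hE' : DRing.TermwiseFiniteProjective E) (hF' : DRing.TermwiseFiniteProjective F) :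
    chiE (CochainComplex.mappingCone f) = chiE F - chiE E := by
  have key : ∀ i : ℤ, (i.negOnePow : ℤ) • cl ((CochainComplex.mappingCone f).X i) =
      (i.negOnePow : ℤ) • cl (F.X i) - ((i + 1).negOnePow : ℤ) • cl (E.X (i + 1)) := fun i => by
    have e := HomologicalComplex.homotopyCofiber.XIsoBiprod f i (i + 1) rfl
    rw [show cl ((CochainComplex.mappingCone f).X i) = cl (E.X (i + 1) ⊞ F.X i) from
      cl_iso e (cone_fp f hE' hF' i), cl_biprod (hE' (i + 1)) (hF' i), Int.negOnePow_succ,
      Units.val_neg, neg_smul, sub_neg_eq_add, smul_add, add_comm]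
  have fE := finite_support hE
  have fE' : (Function.support fun i : ℤ => ((i + 1).negOnePow : ℤ) • cl (E.X (i + 1))).Finite :=
    (fE.image fun i => i - 1).subset fun i hi => ⟨i + 1, hi, by simp⟩
  have hc : (∑ᶠ i : ℤ, ((i + 1).negOnePow : ℤ) • cl (E.X (i + 1))) = chiE E :=
    finsum_comp_equiv (Equiv.addRight (1 : ℤ)) (f := fun i : ℤ => (i.negOnePow : ℤ) • cl (E.X i))
  rw [chiE, finsum_congr key, finsum_sub_distrib (finite_support hF) fE', hc]
  rfl

theorem chiE_invariant {E F : DRing.Cx R} {a b c d : ℤ}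
    (hE : DRing.VanishesOutside E a b) (hF : DRing.VanishesOutside F c d)
    (hE' : DRing.TermwiseFiniteProjective E) (hF' : DRing.TermwiseFiniteProjective F)
    (e : (QA R).obj E ≅ (QA R).obj F) : chiE E = chiE F := by
  haveI := isKProjective_of_bddAbove E b (fun i hi => hE i (Or.inr hi)) (fun i => (hE' i).2)
  obtain ⟨f, hf⟩ := Q_map_surjective E F e.hom
  haveI : IsIso ((QA R).map f) := by rw [hf]; infer_instance
  have hT := DerivedCategory.mappingCone_triangle_distinguished f
  have hz : IsZero ((QA R).obj (CochainComplex.mappingCone f)) :=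
    Triangle.isZero₃_of_isIso₁ _ hT (inferInstanceAs (IsIso ((QA R).map f)))
  have h0 := chiE_of_acyclic (cone_vanishes f hE hF) (cone_fp f hE' hF') fun i => by
    rw [HomologicalComplex.exactAt_iff_isZero_homology, ← isZero_HF_Q_iff]
    exact (HF R i).map_isZero hz
  rw [chiE_cone f hE hF hE' hF', sub_eq_zero] at h0
  exact h0.symm

/-- The Euler characteristic of a perfect object. -/
noncomputable def chiK (X : {K : Dual.D R // PKo R K}) : KZero.K0sub (FPo R) := chiE X.2.choose

theorem chiK_eq {X : Dual.D R} (h : DRing.IsPerfect R X) {E : DRing.Cx R} {a b : ℤ}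
    (hE : DRing.VanishesOutside E a b) (hE' : DRing.TermwiseFiniteProjective E)
    (e : (QA R).obj E ≅ X) : chiK ⟨X, h⟩ = chiE E := by
  obtain ⟨c, d, hv, hp, ⟨f⟩⟩ := h.choose_spec
  exact chiE_invariant hv hE hp hE' (f ≪≫ e.symm)

/-- The Euler characteristic as a homomorphism. -/
noncomputable def chi : KZero.K0tr (PKo R) →+ KZero.K0sub (FPo R) :=
  QuotientAddGroup.lift _ (FreeAbelianGroup.lift chiK) (by
    rw [KZero.relTr, AddSubgroup.closure_le]
    rintro _ ⟨T, h₁, h₂, h₃, hT, rfl⟩
    obtain ⟨E, a, b, hE, hE', ⟨e₁⟩⟩ := id h₁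
    obtain ⟨F, c, d, hF, hF', ⟨e₂⟩⟩ := id h₂
    haveI := isKProjective_of_bddAbove E b (fun i hi => hE i (Or.inr hi)) (fun i => (hE' i).2)
    obtain ⟨f, hf⟩ := Q_map_surjective E F (e₁.hom ≫ T.mor₁ ≫ e₂.inv)
    let e₃ : (QA R).obj (CochainComplex.mappingCone f) ≅ T.obj₃ :=
      Triangle.π₃.mapIso (isoTriangleOfIso₁₂ _ T
        (DerivedCategory.mappingCone_triangle_distinguished f) hT e₁ e₂ (by
          change (QA R).map f ≫ e₂.hom = e₁.hom ≫ T.mor₁
          erw [hf]
          simp))
    rw [SetLike.mem_coe, AddMonoidHom.mem_ker, map_sub, map_sub, FreeAbelianGroup.lift_apply_of,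
      FreeAbelianGroup.lift_apply_of, FreeAbelianGroup.lift_apply_of, chiK_eq h₁ hE hE' e₁,
      chiK_eq h₂ hF hF' e₂, chiK_eq h₃ (cone_vanishes f hE hF) (cone_fp f hE' hF') e₃,
      chiE_cone f hE hF hE' hF']
    abel)

theorem chi_toD {E : DRing.Cx R} {a b : ℤ} (hE : DRing.VanishesOutside E a b)
    (hE' : DRing.TermwiseFiniteProjective E) :
    chi (KZero.clTr (PKo R) ((QA R).obj E)) = chiE E := by
  have h : PKo R ((QA R).obj E) := ⟨E, a, b, hE, hE', ⟨Iso.refl _⟩⟩
  rw [KDer46.clTr_eq h]
  exact (FreeAbelianGroup.lift_apply_of _ _).trans (chiK_eq h hE hE' (Iso.refl _))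

theorem perfect_inD {M : ModuleCat.{u} R} (h : FPo R M) :
    PKo R ((DerivedCategory.singleFunctor (ModuleCat.{u} R) 0).obj M) :=
  (perfect_iff_rep _).2 ⟨0, 0, (Rep.single isModClass_FP 0 h).mono (by simp)⟩

/-- Placing a module in degree zero. -/
noncomputable def inclHom : KZero.K0sub (FPo R) →+ KZero.K0tr (PKo R) :=
  QuotientAddGroup.lift _ (FreeAbelianGroup.lift fun M =>
      KZero.clTr (PKo R) ((DerivedCategory.singleFunctor (ModuleCat.{u} R) 0).obj M.1)) (by
    rw [KZero.relSub, AddSubgroup.closure_le]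
    rintro _ ⟨S, h₁, h₂, h₃, hS, rfl⟩
    rw [SetLike.mem_coe, AddMonoidHom.mem_ker, map_sub, map_sub, FreeAbelianGroup.lift_apply_of,
      FreeAbelianGroup.lift_apply_of, FreeAbelianGroup.lift_apply_of]
    have := KDer46.clTr_triangle (P := PKo R) hS.singleTriangle hS.singleTriangle_distinguished
      (perfect_inD h₁) (perfect_inD h₂) (perfect_inD h₃)
    change KZero.clTr (PKo R) ((DerivedCategory.singleFunctor _ 0).obj S.X₂) = _ + _ at this
    rw [this]
    change (KZero.clTr (PKo R) ((DerivedCategory.singleFunctor _ 0).obj S.X₁) +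
        KZero.clTr (PKo R) ((DerivedCategory.singleFunctor _ 0).obj S.X₃)) -
      KZero.clTr (PKo R) ((DerivedCategory.singleFunctor _ 0).obj S.X₁) -
        KZero.clTr (PKo R) ((DerivedCategory.singleFunctor _ 0).obj S.X₃) = 0
    abel)

theorem inclHom_cl {M : ModuleCat.{u} R} (h : FPo R M) :
    inclHom (cl M) = KZero.clTr (PKo R) ((DerivedCategory.singleFunctor (ModuleCat.{u} R) 0).obj M) :=
  (congrArg inclHom (KDer46.clSub_eq h)).trans (FreeAbelianGroup.lift_apply_of _ _)

theorem chi_inclHom : ∀ x, chi (inclHom (R := R) x) = x := by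
  intro x
  obtain ⟨z, rfl⟩ := QuotientAddGroup.mk_surjective x
  induction z using FreeAbelianGroup.induction_on with
  | zero => exact (congrArg chi (map_zero inclHom)).trans (map_zero _)
  | of M =>
    rw [← KDer46.clSub_eq M.2, inclHom_cl M.2]
    let E : DRing.Cx R := (CochainComplex.singleFunctor (ModuleCat.{u} R) 0).obj M.1
    have hv : DRing.VanishesOutside E 0 0 := fun i hi =>
      HomologicalComplex.isZero_single_obj_X (ComplexShape.up ℤ) 0 M.1 i (by omega)
    have hp : DRing.TermwiseFiniteProjective E := fun i => by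
      by_cases hi : i = 0
      · subst hi
        exact isModClass_FP.of_iso (HomologicalComplex.singleObjXSelf (ComplexShape.up ℤ) 0 M.1).symm M.2
      · exact fp_isZero (HomologicalComplex.isZero_single_obj_X (ComplexShape.up ℤ) 0 M.1 i hi)
    have e := ((DerivedCategory.singleFunctorIsoCompQ (ModuleCat.{u} R) 0).app M.1)
    rw [KDer46.clTr_eq (perfect_inD M.2)]
    refine (FreeAbelianGroup.lift_apply_of _ _).trans ((chiK_eq _ hv hp e.symm).trans ?_)
    rw [chiE_eq_sum hv, Finset.Icc_self, Finset.sum_singleton, Int.negOnePow_zero, Units.val_one, one_smul]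
    exact cl_iso (HomologicalComplex.singleObjXSelf (ComplexShape.up ℤ) 0 M.1) (hp 0)
  | neg z hz => rw [QuotientAddGroup.mk_neg, map_neg, map_neg, hz]
  | add y z hy hz => rw [QuotientAddGroup.mk_add, map_add, map_add, hy, hz]

theorem range_inclHom : (inclHom (R := R)).range = ⊤ := by
  refine KDer46.eq_top_of_forall_mem _ fun X hX => ?_
  let H := (inclHom (R := R)).range
  have hP0 : ∀ {Y : Dual.D R}, IsZero Y → PKo R Y := fun h => perfect_of_isZero h
  obtain ⟨E, a, b, hv, hp, ⟨e⟩⟩ := id hX
  haveI := cutι_isIso_of_vanishesOutside E a b hv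
  have hsingle : ∀ i, KDer46.InSubgroup (PKo R) H
      ((DerivedCategory.singleFunctor (ModuleCat.{u} R) i).obj (E.X i)) := fun i => by
    have h0 : KDer46.InSubgroup (PKo R) H (Dual.inD R (E.X i)) :=
      ⟨perfect_inD (hp i), cl (E.X i), inclHom_cl (hp i)⟩
    have h1 := KDer46.inSubgroup_shift (P := PKo R) hP0 (fun Y n h => perfect_shift h n) H h0 (-i)
    have e := singleShiftIso (E.X i) i (-i) (by omega)
    refine ⟨perfect_of_iso h1.1 e, ?_⟩
    rw [KDer46.clTr_iso (P := PKo R) hP0 e h1.1 (perfect_of_iso h1.1 e)]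
    exact h1.2
  have h := induction_terms (P := KDer46.InSubgroup (PKo R) H)
    (fun T hT h₁ h₃ => ⟨perfect_obj₂ hT h₁.1 h₃.1, by
      rw [KDer46.clTr_triangle (P := PKo R) T hT h₁.1 (perfect_obj₂ hT h₁.1 h₃.1) h₃.1]
      exact H.add_mem h₁.2 h₃.2⟩)
    (fun Y hY => ⟨hP0 hY, by rw [KDer46.clTr_isZero (P := PKo R) hP0 hY]; exact H.zero_mem⟩)
    E b (fun i hi => hv i (Or.inr hi)) a fun i _ => hsingle i
  have e' := (QA R).mapIso (asIso (cutι E a)) ≪≫ e
  rw [KDer46.clTr_iso (P := PKo R) hP0 e' h.1 hX]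
  exact h.2

theorem exists_equiv : ∃ φ : KZero.K0sub (FPo R) ≃+ KZero.K0tr (PKo R),
    (∀ M, FPo R M → φ (cl M) = KZero.clTr (PKo R) ((DerivedCategory.singleFunctor (ModuleCat.{u} R) 0).obj M)) ∧
    ∀ y, φ.symm y = chi y := by
  let φ := AddEquiv.ofBijective (inclHom (R := R))
    ⟨Function.LeftInverse.injective chi_inclHom, AddMonoidHom.range_eq_top.1 range_inclHom⟩
  refine ⟨φ, fun M hM => inclHom_cl hM, fun y => ?_⟩
  conv_rhs => rw [← φ.apply_symm_apply y]
  exact (chi_inclHom _).symm

end Groth.Agent.K0Perf46
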